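import Cfsg.Agent.NoDivDegrees.ClassFour.Pairing

/-!
# The graded configuration of class four does not exist

`M, U, N, W` stand for the first four layers, `c, d, e, f` for the brackets `M × M → U`, `U × M → N`,
`N × M → W` and `U × U → W`.
-/

set_option autoImplicit false

namespace CfsgLib.NoDivDegrees.ClassFour

variable {p : ℕ} [Fact p.Prime] {M U N W : Type*} [AddCommGroup M] [AddCommGroup U] [AddCommGroup N]
  [AddCommGroup W] [Finite M] [Finite U] [Finite N] [Finite W]

/-- The four layers and their brackets. -/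
structure Layers (p : ℕ) (c : M →+ M →+ U) (d : U →+ M →+ N) (e : N →+ M →+ W) (f : U →+ U →+ W) : Prop where
  hM : ∀ m : M, p • m = 0
  hU : ∀ u : U, p • u = 0
  hN : ∀ n : N, p • n = 0
  ne : (∃ u : U, u ≠ 0) ∧ ∃ n : N, n ≠ 0
  alt : ∀ m, c m m = 0
  altf : ∀ u, f u u = 0
  jac : ∀ a b x, d (c a b) x + d (c b x) a + d (c x a) b = 0
  hall : ∀ u m n, e (d u m) n = e (d u n) m + f u (c m n)
  surj : ∀ m, m ≠ 0 → ∀ u, ∃ w, c m w = u
  ram3 : ∀ φ : N →+ ZMod p, φ ≠ 0 → ∀ u, u ≠ 0 → ∃ m, φ (d u m) ≠ 0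
  ram4 : ∀ ν : W →+ ZMod p, ν ≠ 0 → ∀ l, l ≠ 0 → ∃ m, ν (e l m) ≠ 0
  zeta : ∀ m, m ≠ 0 → p * Nat.card N ≤ Nat.card (c m).ker * Nat.card (d.flip m).range
  bound : Nat.card U ^ 2 ≤ Nat.card M
  dich : ∃ ν : W →+ ZMod p, ν ≠ 0 ∧
    ((∀ u u', ν (f u u') = 0) ∨ ∀ u, u ≠ 0 → ∃ u', ν (f u u') ≠ 0)

namespace Layers

variable {c : M →+ M →+ U} {d : U →+ M →+ N} {e : N →+ M →+ W} {f : U →+ U →+ W} (H : Layers p c d e f)
include H

omit [Finite M] [Finite U] [Finite N] [Finite W] in
theorem c_swap (a b : M) : c a b = -c b a := by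
  have h := H.alt (a + b)
  simp only [map_add, AddMonoidHom.add_apply, H.alt, add_zero, zero_add] at h
  exact eq_neg_of_add_eq_zero_left (by rw [add_comm]; exact h)

omit [Finite M] [Finite U] [Finite N] [Finite W] in
theorem f_swap (a b : U) : f a b = -f b a := by
  have h := H.altf (a + b)
  simp only [map_add, AddMonoidHom.add_apply, H.altf, add_zero, zero_add] at h
  exact eq_neg_of_add_eq_zero_left (by rw [add_comm]; exact h)

theorem card_ker_c {m : M} (hm : m ≠ 0) : Nat.card (c m).ker * Nat.card U = Nat.card M := by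
  have h := AddSubgroup.card_eq_card_quotient_mul_card_addSubgroup (c m).ker
  rw [Nat.card_congr (QuotientAddGroup.quotientKerEquivOfSurjective (c m) (H.surj m hm)).toEquiv] at h
  rw [h, mul_comm]

/-- The pairing of a functional on the third layer. -/
def pair3 (φ : N →+ ZMod p) (d : U →+ M →+ N) : U →+ M →+ ZMod p :=
  (AddMonoidHom.compHom φ).comp d

theorem card_R {φ : N →+ ZMod p} (hφ : φ ≠ 0) :
    Nat.card (pair3 φ d).flip.ker * Nat.card U = Nat.card M :=
  card_ker_flip H.hU _ fun u hu => by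
    by_contra hne
    obtain ⟨m, hm⟩ := H.ram3 φ hφ u hne
    exact hm (hu m)

omit [Finite M] [Finite U] [Finite N] [Finite W] in
theorem R_isotropic {φ : N →+ ZMod p} (hφ : φ ≠ 0) {r r' : M} (hr : r ∈ (pair3 φ d).flip.ker)
    (hr' : r' ∈ (pair3 φ d).flip.ker) : c r r' = 0 := by
  by_contra hne
  obtain ⟨w, hw⟩ := H.ram3 φ hφ _ hne
  have h := congrArg φ (H.jac r r' w)
  have h1 : φ (d (c r' w) r) = 0 := DFunLike.congr_fun hr _
  have h2 : φ (d (c w r) r') = 0 := DFunLike.congr_fun hr' _
  rw [map_add, map_add, h1, h2, add_zero, add_zero, map_zero] at h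
  exact hw h

theorem orders : Nat.card M = Nat.card U ^ 2 := by
  refine le_antisymm ?_ H.bound
  obtain ⟨⟨u₀, hu₀⟩, n₀, hn₀⟩ := H.ne
  obtain ⟨μ, hμ⟩ := exists_hom_ne_zero H.hU hu₀
  obtain ⟨φ, hφ⟩ := exists_hom_ne_zero H.hN hn₀
  have hφ' : φ ≠ 0 := fun h => hφ (by rw [h]; rfl)
  have h1 := card_sq_le_of_isotropic H.hM ((AddMonoidHom.compHom μ).comp c) (fun m hm => by
    by_contra hne
    obtain ⟨w, hw⟩ := H.surj m hne u₀
    exact hμ (by rw [← hw]; exact hm w)) (pair3 φ d).flip.ker
    (fun r hr r' hr' => by show μ (c r r') = 0; rw [H.R_isotropic hφ' hr hr', map_zero])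
  have h2 := H.card_R hφ'
  have hR : 0 < Nat.card (pair3 φ d).flip.ker := Nat.card_pos
  rw [← h2] at h1 ⊢
  rw [pow_two] at h1 ⊢
  exact Nat.mul_le_mul_right _ (Nat.le_of_mul_le_mul_left h1 hR)

theorem card_ker {m : M} (hm : m ≠ 0) : Nat.card (c m).ker = Nat.card U :=
  Nat.eq_of_mul_eq_mul_right Nat.card_pos (by rw [H.card_ker_c hm, H.orders, pow_two])

theorem card_R_eq {φ : N →+ ZMod p} (hφ : φ ≠ 0) : Nat.card (pair3 φ d).flip.ker = Nat.card U :=
  Nat.eq_of_mul_eq_mul_right Nat.card_pos (by rw [H.card_R hφ, H.orders, pow_two])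

theorem R_eq {φ : N →+ ZMod p} (hφ : φ ≠ 0) {r : M} (hr : r ∈ (pair3 φ d).flip.ker) (hr0 : r ≠ 0) :
    (pair3 φ d).flip.ker = (c r).ker :=
  AddSubgroup.eq_of_le_of_card_ge (fun _ hs => AddMonoidHom.mem_ker.2 (H.R_isotropic hφ hr hs))
    (by rw [H.card_ker hr0, H.card_R_eq hφ])

theorem zeta' {m : M} (hm : m ≠ 0) : p * Nat.card N ≤ Nat.card U * Nat.card (d.flip m).range := by
  rw [← H.card_ker hm]; exact H.zeta m hm

/-- The configuration does not exist. -/
theorem elim : False := by
  have hp : p.Prime := Fact.out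
  obtain ⟨ν, hν, hdich⟩ := H.dich
  obtain ⟨⟨u₀, hu₀⟩, n₀, hn₀⟩ := H.ne
  -- the common kernel on the third layer
  let P4 : N →+ M →+ ZMod p := (AddMonoidHom.compHom ν).comp e
  have hK := card_ker_flip H.hN P4 fun l hl => by
    by_contra hne
    obtain ⟨m, hm⟩ := H.ram4 ν hν l hne
    exact hm (hl m)
  have hK1 : ∀ {k}, k ∈ P4.flip.ker → ∀ l, ν (e l k) = 0 := fun hk l => DFunLike.congr_fun hk l
  have hN0 : 0 < Nat.card N := Nat.card_pos
  have hU0 : 0 < Nat.card U := Nat.card_pos
  have hN1 : 1 < Nat.card N := by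
    haveI : Nontrivial N := ⟨⟨n₀, 0, hn₀⟩⟩
    exact Finite.one_lt_card
  have hM : Nat.card M = Nat.card U * Nat.card U := by rw [H.orders, pow_two]
  have hrange : ∀ m, Nat.card (d.flip m).range ≤ Nat.card U := fun m =>
    Nat.card_le_card_of_surjective _ (AddMonoidHom.rangeRestrict_surjective (d.flip m))
  -- outside `K1` the kernels are centralisers
  let φn : M → (N →+ ZMod p) := fun n => P4.flip n
  have hφn : ∀ {n}, n ∉ P4.flip.ker → φn n ≠ 0 := fun hn h => hn h
  -- `K1` is not trivial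
  obtain ⟨k, hk, hk0⟩ : ∃ k ∈ P4.flip.ker, k ≠ 0 := by
    by_contra! hall
    have h1 : Nat.card P4.flip.ker = 1 := by
      rw [(AddSubgroup.eq_bot_iff_forall _).2 hall]; exact AddSubgroup.card_bot
    rw [h1, one_mul] at hK
    obtain ⟨m, hm⟩ : ∃ m : M, m ≠ 0 := by
      by_contra! hall'
      haveI : Subsingleton M := ⟨fun a b => by rw [hall' a, hall' b]⟩
      rw [Nat.card_of_subsingleton (0 : M)] at hK
      omega
    have := (H.zeta' hm).trans (Nat.mul_le_mul_left _ (hrange m))
    rw [hK, hM] at this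
    nlinarith [hp.two_le, Nat.mul_pos hU0 hU0]
  obtain ⟨n₁, hn₁⟩ : ∃ n, n ∉ P4.flip.ker := by
    by_contra! hall
    rw [(AddSubgroup.eq_top_iff' _).2 hall, AddSubgroup.card_top] at hK
    nlinarith [Nat.card_pos (α := M)]
  rcases hdich with hβ | hβ
  · -- no pairing on the second layer
    have hsym : ∀ u m n, ν (e (d u m) n) = ν (e (d u n) m) := fun u m n => by
      rw [H.hall, map_add, hβ, add_zero]
    have hkill : ∀ u, d u k = 0 := fun u => by
      by_contra hne
      obtain ⟨n, hn⟩ := H.ram4 ν hν _ hne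
      exact hn (by rw [hsym]; exact hK1 hk _)
    have h1 : p * Nat.card N ≤ Nat.card U := by
      have h := H.zeta' hk0
      rwa [(AddSubgroup.eq_bot_iff_forall (d.flip k).range).2 (by rintro _ ⟨u, rfl⟩; exact hkill u),
        AddSubgroup.card_bot, mul_one] at h
    have h2 : Nat.card P4.flip.ker ≤ Nat.card U := by
      rw [← H.card_R_eq (hφn hn₁)]
      refine AddSubgroup.card_le_of_le fun k' hk' => AddMonoidHom.mem_ker.2 (AddMonoidHom.ext fun u => ?_)
      show ν (e (d u k') n₁) = 0
      rw [hsym]; exact hK1 hk' _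
    have h3 := Nat.mul_le_mul h2 h1
    have h4 : p * (Nat.card P4.flip.ker * Nat.card N) ≤ Nat.card U * Nat.card U := by
      rw [mul_left_comm]; exact h3
    rw [hK, hM] at h4
    nlinarith [hp.two_le, Nat.mul_pos hU0 hU0]
  · -- a non-degenerate pairing on the second layer
    set Z := (c k).ker with hZdef
    have hβ' : ∀ v, (∀ u, ν (f u v) = 0) → v = 0 := fun v hv => by
      by_contra hne
      obtain ⟨u, hu⟩ := hβ v hne
      exact hu (by rw [H.f_swap, map_neg, hv u, neg_zero])
    have hKK : ∀ {k'}, k' ∈ P4.flip.ker → k' ∈ Z := fun {k'} hk' => AddMonoidHom.mem_ker.2 (hβ' _ fun u => by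
      have h := congrArg ν (H.hall u k k')
      rwa [map_add, hK1 hk', hK1 hk, zero_add, eq_comm] at h)
    have hTk : ∀ u n, ν (e (d u k) n) = ν (f u (c k n)) := fun u n => by
      rw [H.hall, map_add, hK1 hk, zero_add]
    have hTZZ : ∀ u, ∀ z ∈ Z, ∀ n ∈ Z, ν (e (d u z) n) = 0 := by
      intro u z hz n hn
      by_cases hnK : n ∈ P4.flip.ker
      · exact hK1 hnK _
      have hkR : k ∈ (pair3 (φn n) d).flip.ker := AddMonoidHom.mem_ker.2 (AddMonoidHom.ext fun u' => by
        show ν (e (d u' k) n) = 0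
        rw [hTk, AddMonoidHom.mem_ker.1 hn, map_zero, map_zero])
      rw [hZdef, ← H.R_eq (hφn hnK) hkR hk0] at hz
      exact DFunLike.congr_fun (AddMonoidHom.mem_ker.1 hz) u
    have hZZ : ∀ z ∈ Z, ∀ z' ∈ Z, c z z' = 0 := fun z hz z' hz' => hβ' _ fun u => by
      have h := congrArg ν (H.hall u z z')
      rwa [map_add, hTZZ u z hz z' hz', hTZZ u z' hz' z hz, zero_add, eq_comm] at h
    have hZz : ∀ z ∈ Z, z ≠ 0 → (c z).ker = Z := fun z hz hz0 => Eq.symm <|
      AddSubgroup.eq_of_le_of_card_ge (fun z' hz' => AddMonoidHom.mem_ker.2 (hZZ z hz z' hz'))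
        (by rw [H.card_ker hz0, hZdef, H.card_ker hk0])
    -- the operators
    choose s hs using H.surj k hk0
    have hsZ : ∀ w, s (c k w) - w ∈ Z := fun w =>
      AddMonoidHom.mem_ker.2 (by rw [map_sub, hs, sub_self])
    have hcs : ∀ z ∈ Z, ∀ w, c z (s (c k w)) = c z w := fun z hz w => by
      rw [← sub_eq_zero, ← map_sub, hZZ z hz _ (hsZ w)]
    let E : Z →+ AddMonoid.End U := AddMonoidHom.mk' (fun z => AddMonoidHom.mk' (fun v => c z (s v))
        fun v v' => by
          rw [← map_add]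
          have h : c k (s v + s v') = v + v' := by rw [map_add, hs, hs]
          rw [← h]
          exact hcs z z.2 _)
      fun z z' => AddMonoidHom.ext fun v => by
        show c ((z + z' : Z) : M) (s v) = c z (s v) + c z' (s v)
        rw [AddSubgroup.coe_add, map_add, AddMonoidHom.add_apply]
    have hE : ∀ (z : Z) w, E z (c k w) = c (z : M) w := fun z w => hcs z z.2 w
    have hinj : ∀ z : Z, z ≠ 0 → ∀ v, E z v = 0 → v = 0 := fun z hz v hv => by
      have h1 : s v ∈ (c (z : M)).ker := hv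
      rw [hZz z z.2 fun h => hz (Subtype.ext h)] at h1
      rw [← hs v]; exact h1
    have hinj' : ∀ v, v ≠ 0 → Function.Injective fun z => E z v := fun v hv a b hab => by
      by_contra hne
      exact hv (hinj (a - b) (sub_ne_zero.2 hne) v (by rw [map_sub]; exact sub_eq_zero.2 hab))
    haveI : Finite Z := inferInstance
    have hbij : Function.Bijective fun z => E z u₀ :=
      (Nat.bijective_iff_injective_and_card _).2 ⟨hinj' u₀ hu₀, H.card_ker hk0⟩
    -- Jacobi with `k, z, w`
    have hI2 : ∀ a ∈ Z, ∀ b ∈ Z, ∀ w n, ν (e (d (c b w) a) n) = ν (e (d (c a w) b) n) := by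
      intro a ha b hb w n
      have h := congrArg (fun x => ν (e x n)) (H.jac a b w)
      simp only [hZZ a ha b hb, H.c_swap w a, map_add, map_zero, map_neg, AddMonoidHom.zero_apply,
        AddMonoidHom.add_apply, AddMonoidHom.neg_apply, zero_add] at h
      exact add_neg_eq_zero.1 h
    have hT : ∀ (z : Z) u n, ν (e (d u z) n) = ν (f (E z u) (c k n)) := fun z u n => by
      obtain ⟨w, rfl⟩ := H.surj k hk0 u
      rw [hE, ← hTk, hI2 (z : M) z.2 k (AddMonoidHom.mem_ker.2 (H.alt k))]
    have hcomm : ∀ a b : Z, E a * E b = E b * E a := fun a b => AddMonoidHom.ext fun v => by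
      obtain ⟨w, rfl⟩ := H.surj k hk0 v
      show E a (E b (c k w)) = E b (E a (c k w))
      rw [hE, hE, ← sub_eq_zero]
      by_contra hne
      obtain ⟨x, hx⟩ := hβ _ hne
      obtain ⟨n, rfl⟩ := H.surj k hk0 x
      refine hx ?_
      rw [map_sub, AddMonoidHom.sub_apply, map_sub, ← hT, ← hT, hI2 _ a.2 _ b.2, sub_self]
    have hclosed : ∀ a b : Z, ∃ x : Z, E a * E b = E x := fun a b => by
      obtain ⟨x, hx⟩ := hbij.2 (E a (E b u₀))
      refine ⟨x, AddMonoidHom.ext fun v => ?_⟩
      obtain ⟨y, rfl⟩ := hbij.2 v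
      have hc : ∀ a b : Z, ∀ v, E a (E b v) = E b (E a v) := fun a b v => DFunLike.congr_fun (hcomm a b) v
      show E a (E b (E y u₀)) = E x (E y u₀)
      rw [hc b y, hc a y, hc x y]
      exact congrArg (E y) hx.symm
    -- forms and the squared difference of left and right composition
    let L : Z → AddMonoid.End (U →+ U →+ ZMod p) := fun z =>
      AddMonoidHom.mk' (fun g => g.comp (E z)) fun g g' => rfl
    let R : Z → AddMonoid.End (U →+ U →+ ZMod p) := fun z =>
      AddMonoidHom.mk' (fun g => (AddMonoidHom.compHom' (E z)).comp g) fun g g' => by ext; rfl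
    let β : U →+ U →+ ZMod p := (AddMonoidHom.compHom ν).comp f
    have hLR : ∀ z, Commute (L z) (R z) := fun z => AddMonoidHom.ext fun g => rfl
    have hsq : ∀ (z : Z) v v', β (E z (E z v)) v' + β v (E z (E z v')) = β (E z v) (E z v') + β (E z v) (E z v') := by
      intro z v v'
      obtain ⟨w, rfl⟩ := H.surj k hk0 v
      obtain ⟨w', rfl⟩ := H.surj k hk0 v'
      have hu : ∀ u m, ν (e (d u m) z) = β (E z u) (c k m) - β u (E z (c k m)) := fun u m => by
        rw [H.hall u m (z : M), map_add, hT, H.c_swap m, ← hE z m, map_neg, map_neg, ← sub_eq_add_neg]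
        rfl
      have h := congrArg (fun x => ν (e x (z : M))) (H.jac (z : M) w w')
      simp only [map_add, map_zero, AddMonoidHom.zero_apply, AddMonoidHom.add_apply,
        hTZZ _ _ z.2 _ z.2, add_zero] at h
      rw [← hE z w, H.c_swap w' (z : M), ← hE z w', hu, hu] at h
      simp only [map_neg, AddMonoidHom.neg_apply] at h
      have s1 : ∀ a b, β a b = -β b a := fun a b => by
        show ν (f a b) = -ν (f b a); rw [H.f_swap, map_neg]
      rw [s1 (E z (E z (c k w'))) (c k w), s1 (E z (c k w')) (E z (c k w))] at h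
      linear_combination h
    -- the `p`-th powers are self-adjoint
    have hLpow : ∀ z (j : ℕ) g v v', ((L z) ^ j) g v v' = g ((E z ^ j) v) v' := fun z j => by
      induction j with
      | zero => intros; rfl
      | succ j ih => intro g v v'; rw [pow_succ, pow_succ']; exact ih _ v v'
    have hRpow : ∀ z (j : ℕ) g v v', ((R z) ^ j) g v v' = g v ((E z ^ j) v') := fun z j => by
      induction j with
      | zero => intros; rfl
      | succ j ih => intro g v v'; rw [pow_succ, pow_succ']; exact ih _ v v'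
    have hadj : ∀ (z : Z) v v', β ((E z ^ p) v) v' = β v ((E z ^ p) v') := by
      intro z v v'
      obtain ⟨r, hr⟩ := (((hLR z).sub_left rfl : Commute (L z - R z) (R z))).exists_add_pow_prime_eq hp
      rw [sub_add_cancel] at hr
      have h2 : ((L z - R z) ^ 2) β = 0 := AddMonoidHom.ext fun a => AddMonoidHom.ext fun b => by
        rw [pow_two]
        show (β (E z (E z a)) b - β (E z a) (E z b)) - (β (E z a) (E z b) - β a (E z (E z b))) = 0
        linear_combination hsq z a b
      have hp2 : ((L z - R z) ^ p) β = 0 := by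
        rw [← pow_sub_mul_pow _ hp.two_le]
        show ((L z - R z) ^ (p - 2)) (((L z - R z) ^ 2) β) = 0
        rw [h2, map_zero]
      have h0 : ∀ g : U →+ U →+ ZMod p, p • g = 0 := fun g =>
        AddMonoidHom.ext fun a => AddMonoidHom.ext fun b => by
          rw [AddMonoidHom.nsmul_apply, AddMonoidHom.nsmul_apply, nsmul_eq_mul, CharP.cast_eq_zero, zero_mul]; rfl
      have h := DFunLike.congr_fun (DFunLike.congr_fun (DFunLike.congr_fun hr β) v) v'
      rw [hLpow] at h
      rw [h, ← hRpow, mul_assoc, mul_assoc]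
      show (((L z - R z) ^ p) β) v v' + ((R z ^ p) β) v v' +
        (p • (((L z - R z) * (R z * r)) β)) v v' = ((R z ^ p) β) v v'
      rw [hp2, h0]
      simp
    have hU0' : ∀ g : AddMonoid.End U, p • g = 0 := fun g => AddMonoidHom.ext fun a => by
      show p • g a = 0
      exact H.hU _
    have hpowmem : ∀ (z : Z) (j : ℕ), ∃ x : Z, E z ^ (j + 1) = E x := fun z j => by
      induction j with
      | zero => exact ⟨z, pow_one _⟩
      | succ j ih =>
        obtain ⟨x, hx⟩ := ih
        obtain ⟨y, hy⟩ := hclosed x z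
        exact ⟨y, by rw [pow_succ, hx, hy]⟩
    choose π hπ using fun z => hpowmem z (p - 1)
    rw [Nat.sub_add_cancel hp.one_le] at hπ
    have hπinj : Function.Injective π := fun a b hab => by
      by_contra hne
      have he : E a ^ p = E b ^ p := by rw [hπ, hπ, hab]
      have hd : Commute (E (a - b)) (E b) := hcomm _ _
      obtain ⟨r, hr⟩ := hd.exists_add_pow_prime_eq hp
      rw [← map_add, sub_add_cancel, he, mul_assoc, mul_assoc, ← nsmul_eq_mul, hU0', add_zero] at hr
      have hz : E (a - b) ^ p = 0 := left_eq_add.1 (hr.trans (add_comm _ _))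
      have hi : ∀ j, Function.Injective ⇑(E (a - b) ^ j) := fun j => by
        induction j with
        | zero => exact fun _ _ h => h
        | succ j ih =>
          intro x y hxy
          rw [pow_succ'] at hxy
          refine ih (sub_eq_zero.1 (hinj _ (sub_ne_zero.2 hne) _ ?_))
          rw [map_sub]
          exact sub_eq_zero.2 hxy
      exact hu₀ (hi p (by rw [hz]; rfl))
    have hself : ∀ (z : Z) v v', β (E z v) v' = β v (E z v') := fun z v v' => by
      obtain ⟨y, rfl⟩ := Finite.injective_iff_surjective.1 hπinj z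
      rw [← hπ]
      exact hadj y v v'
    obtain ⟨v₁, hv₁⟩ := hβ u₀ hu₀
    have hdiag : ∀ v, β v v = 0 := fun v => by
      show ν (f v v) = 0
      rw [H.altf, map_zero]
    refine hv₁ ?_
    rcases hp.eq_two_or_odd' with rfl | hodd
    · obtain ⟨z, rfl⟩ := hbij.2 v₁
      obtain ⟨y, rfl⟩ := Finite.injective_iff_surjective.1 hπinj z
      show β u₀ (E (π y) u₀) = 0
      rw [← hπ, pow_two]
      show β u₀ (E y (E y u₀)) = 0
      rw [← hself, hdiag]
    · have hsymβ : ∀ v v', β v v' = β v' v := by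
        intro v v'
        obtain ⟨a, rfl⟩ := hbij.2 v
        obtain ⟨b, rfl⟩ := hbij.2 v'
        show β (E a u₀) (E b u₀) = β (E b u₀) (E a u₀)
        rw [← hself b (E a u₀), ← hself a (E b u₀)]
        exact congrArg (fun x => β x u₀) (DFunLike.congr_fun (hcomm b a) u₀)
      have h2 : β u₀ v₁ + β u₀ v₁ = 0 := by
        conv_lhs => arg 2; rw [hsymβ]
        show ν (f u₀ v₁) + ν (f v₁ u₀) = 0
        rw [H.f_swap v₁, map_neg, add_neg_cancel]
      rw [← two_mul] at h2
      refine (mul_eq_zero.1 h2).resolve_left fun h => ?_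
      have h3 : ((2 : ℕ) : ZMod p) = 0 := by simpa using h
      rw [ZMod.natCast_eq_zero_iff] at h3
      have := (Nat.prime_dvd_prime_iff_eq hp Nat.prime_two).1 h3
      subst this
      exact absurd hodd (by decide)

end Layers

end CfsgLib.NoDivDegrees.ClassFour
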