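import Cfsg.Agent.FpfClass.AssociatedLie
import Cfsg.Agent.NoDivDegrees.ClassFour.Algebra

/-!
# From the group to the graded configuration
-/

set_option autoImplicit false

open scoped commutatorElement DirectSum

namespace CfsgLib.NoDivDegrees.ClassFour

open CfsgLib.FpfClass

variable {G : Type*} [Group G]

/-- A layer, as a subgroup of the Lie ring. -/
noncomputable abbrev Lay (G : Type*) [Group G] (i : ℕ) : AddSubgroup (Gr G) := (clHom (G := G) i).range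

theorem cl_eq_clHom {i : ℕ} {g : G} (hg : g ∈ gam G i) : cl i g = clHom i (Additive.ofMul ⟨g, hg⟩) := by
  rw [cl, dif_pos hg]

theorem cl_mem {i : ℕ} {g : G} (hg : g ∈ gam G i) : cl i g ∈ Lay G i :=
  ⟨_, (cl_eq_clHom hg).symm⟩

theorem mem_lay {i : ℕ} {a : Gr G} (ha : a ∈ Lay G i) : ∃ g ∈ gam G i, cl i g = a := by
  obtain ⟨x, rfl⟩ := ha
  exact ⟨(Additive.toMul x : ↥(gam G i)), (Additive.toMul x : ↥(gam G i)).2, cl_eq_clHom _⟩

/-- The element of a layer given by a group element. -/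
noncomputable def mkL {i : ℕ} {g : G} (hg : g ∈ gam G i) : Lay G i := ⟨cl i g, cl_mem hg⟩

theorem exists_mkL {i : ℕ} (a : Lay G i) : ∃ g, ∃ hg : g ∈ gam G i, mkL hg = a := by
  obtain ⟨g, hg, h⟩ := mem_lay a.2
  exact ⟨g, hg, Subtype.ext h⟩

theorem mem_gam_zero (g : G) : g ∈ gam G 0 := Subgroup.mem_top g

theorem mkL_eq_zero {i : ℕ} {g : G} (hg : g ∈ gam G i) : mkL hg = 0 ↔ g ∈ gam G (i + 1) := by
  rw [← cl_eq_zero_iff i hg]
  exact Subtype.ext_iff

theorem mkL_mul {i : ℕ} {g g' : G} (hg : g ∈ gam G i) (hg' : g' ∈ gam G i) :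
    mkL ((gam G i).mul_mem hg hg') = mkL hg + mkL hg' :=
  Subtype.ext (cl_mul i hg hg')

theorem lie_mem {i j k : ℕ} (h : i + j + 1 = k) {a b : Gr G} (ha : a ∈ Lay G i) (hb : b ∈ Lay G j) :
    ⁅a, b⁆ ∈ Lay G k := by
  obtain ⟨x, hx, rfl⟩ := mem_lay ha
  obtain ⟨y, hy, rfl⟩ := mem_lay hb
  rw [lie_cl hx hy, h]
  exact cl_mem (h ▸ commutator_mem_gam hx hy)

/-- The bracket of two layers. -/
noncomputable def br (i j k : ℕ) (h : i + j + 1 = k) : Lay G i →+ Lay G j →+ Lay G k :=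
  AddMonoidHom.mk' (fun a => AddMonoidHom.mk' (fun b => ⟨⁅(a : Gr G), (b : Gr G)⁆, lie_mem h a.2 b.2⟩)
      fun b b' => Subtype.ext (lie_add _ _ _))
    fun a a' => AddMonoidHom.ext fun b => Subtype.ext (add_lie _ _ _)

theorem br_val {i j k : ℕ} (h : i + j + 1 = k) (a : Lay G i) (b : Lay G j) :
    ((br i j k h a b : Lay G k) : Gr G) = ⁅(a : Gr G), (b : Gr G)⁆ := rfl

theorem br_mkL {i j k : ℕ} (h : i + j + 1 = k) {x y : G} (hx : x ∈ gam G i) (hy : y ∈ gam G j)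
    (hxy : ⁅x, y⁆ ∈ gam G k) : br i j k h (mkL hx) (mkL hy) = mkL hxy := by
  subst h
  exact Subtype.ext (lie_cl hx hy)

/-- The layers are generated by brackets. -/
theorem nsmul_eq_zero_succ {p i : ℕ} (h0 : ∀ m : Lay G 0, p • m = 0) :
    ∀ a : Lay G (i + 1), p • a = 0 := by
  have key : ∀ g, ∀ hg : g ∈ gam G (i + 1), p • mkL hg = 0 := by
    intro g hg
    have hg' : g ∈ Subgroup.closure {x | ∃ q ∈ gam G i, ∃ r ∈ (⊤ : Subgroup G), ⁅q, r⁆ = x} := hg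
    induction hg' using Subgroup.closure_induction with
    | mem x hx =>
      obtain ⟨q, hq, r, hr, rfl⟩ := hx
      rw [← br_mkL (i := i) (j := 0) (k := i + 1) rfl hq hr hg, ← map_nsmul, h0, map_zero]
    | one => rw [(mkL_eq_zero hg).2 (one_mem _), nsmul_zero]
    | mul x y hx hy ihx ihy => rw [mkL_mul hx hy, nsmul_add, ihx hx, ihy hy, add_zero]
    | inv x hx ih =>
      have : mkL hg = -mkL (show x ∈ gam G (i + 1) from hx) := Subtype.ext (cl_inv _ hx)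
      rw [this, smul_neg, ih hx, neg_zero]
  intro a
  obtain ⟨g, hg, rfl⟩ := exists_mkL a
  exact key g hg

theorem finite_lay [Finite G] (i : ℕ) : Finite (Lay G i) :=
  Finite.of_surjective (fun g : ↥(gam G i) => mkL g.2) fun a => by
    obtain ⟨g, hg, h⟩ := exists_mkL a
    exact ⟨⟨g, hg⟩, h⟩

/-- The action of an automorphism on a layer. -/
noncomputable def layMap (α : MulAut G) (i : ℕ) : Lay G i →+ Lay G i :=
  AddMonoidHom.mk' (fun a => ⟨grMap α a, by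
      obtain ⟨g, hg, h⟩ := mem_lay a.2
      rw [← h, grMap_cl α i hg]
      exact cl_mem (map_mem_gam α hg)⟩)
    fun a b => Subtype.ext (map_add (grMap α) _ _)

theorem layMap_mkL (α : MulAut G) {i : ℕ} {g : G} (hg : g ∈ gam G i) :
    layMap α i (mkL hg) = mkL (map_mem_gam α hg) :=
  Subtype.ext (grMap_cl α i hg)

theorem layMap_br (α : MulAut G) {i j k : ℕ} (h : i + j + 1 = k) (a : Lay G i) (b : Lay G j) :
    layMap α k (br i j k h a b) = br i j k h (layMap α i a) (layMap α j b) :=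
  Subtype.ext (grMap_lie α _ _)

theorem gam_eq_bot_of_eq [Group.IsNilpotent G] {i : ℕ} (h : gam G i ≤ gam G (i + 1)) : gam G i = ⊥ := by
  obtain ⟨n, hn⟩ := Subgroup.nilpotent_iff_lowerCentralSeries.1 (inferInstance : Group.IsNilpotent G)
  have key : ∀ j, gam G i ≤ gam G (i + j) := fun j => by
    induction j with
    | zero => exact le_rfl
    | succ j ih => exact h.trans (Subgroup.commutator_mono ih le_rfl)
  exact le_bot_iff.1 ((key n).trans ((gam_anti (Nat.le_add_left n i)).trans hn.le))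

variable [Finite G] {p : ℕ} [Fact p.Prime]

/-- When the automorphism fixes the fourth layer the pairing on the second one is non-degenerate. -/
theorem exists_pairing_of_fixed (α : MulAut G) (ν : Lay G 3 →+ ZMod p)
    (hram : ∀ g : G, g ∉ gam G 3 → ∃ w, ∃ h : ⁅g, w⁆ ∈ gam G 3, ν (mkL h) ≠ 0)
    (hfix : ∀ u ∈ gam G 1, α u * u⁻¹ ∈ gam G 2)
    (h0' : Function.Surjective ⇑(layMap α 0 - AddMonoidHom.id (Lay G 0)))
    (h2' : Function.Surjective ⇑(layMap α 2 - AddMonoidHom.id (Lay G 2)))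
    (hall : ∀ l : Lay G 3, layMap α 3 l = l) {u : Lay G 1} (hu : u ≠ 0) :
    ∃ u', ν (br 1 1 3 rfl u u') ≠ 0 := by
  haveI := fun i => finite_lay (G := G) i
  obtain ⟨g₁, hg₁, rfl⟩ := exists_mkL u
  -- a lift fixed modulo `γ 3`
  obtain ⟨a, ha⟩ := h2' (-mkL (show g₁⁻¹ * α g₁ ∈ gam G 2 by
    have := (gam_normal 2).conj_mem _ (hfix g₁ hg₁) g₁⁻¹
    simpa [mul_assoc] using this))
  obtain ⟨e₀, he₀, rfl⟩ := exists_mkL a
  set g' := g₁ * e₀ with hg'def
  have hg' : g' ∈ gam G 1 := mul_mem hg₁ (gam_succ_le 1 he₀)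
  have hmk : mkL hg' = mkL hg₁ := by
    refine Subtype.ext ?_
    show cl 1 (g₁ * e₀) = cl 1 g₁
    rw [cl_mul 1 hg₁ (gam_succ_le 1 he₀), (cl_eq_zero_iff 1 (gam_succ_le 1 he₀)).2 he₀, add_zero]
  have he' : g'⁻¹ * α g' ∈ gam G 3 := by
    have hmem1 : g₁⁻¹ * α g₁ ∈ gam G 2 := by
      simpa [mul_assoc] using (gam_normal 2).conj_mem _ (hfix g₁ hg₁) g₁⁻¹
    have hmem : e₀⁻¹ * (g₁⁻¹ * α g₁) * α e₀ ∈ gam G 2 :=
      mul_mem (mul_mem (inv_mem he₀) hmem1) (map_mem_gam α he₀)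
    have hid : g'⁻¹ * α g' = e₀⁻¹ * (g₁⁻¹ * α g₁) * α e₀ := by
      simp [hg'def, mul_assoc]
    rw [hid, ← cl_eq_zero_iff 2 hmem, cl_mul 2 (mul_mem (inv_mem he₀) hmem1) (map_mem_gam α he₀),
      cl_mul 2 (inv_mem he₀) hmem1, cl_inv 2 he₀]
    have ha' : grMap α (cl 2 e₀) - cl 2 e₀ = -cl 2 (g₁⁻¹ * α g₁) := congrArg Subtype.val ha
    rw [grMap_cl α 2 he₀, sub_eq_iff_eq_add] at ha'
    rw [ha']; abel
  have hg'2 : g' ∉ gam G 2 := fun h => hu (by rw [← hmk, mkL_eq_zero]; exact h)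
  obtain ⟨w₁, hw₁, hνw⟩ := hram g' fun h => hg'2 (gam_anti (by omega) h)
  let W : Subgroup G :=
    { carrier := {w | ⁅g', w⁆ ∈ gam G 3}
      one_mem' := by show ⁅g', (1 : G)⁆ ∈ gam G 3; rw [commutatorElement_one_right]; exact one_mem _
      mul_mem' := fun {a b} ha hb => by
        show ⁅g', a * b⁆ ∈ gam G 3
        rw [show ⁅g', a * b⁆ = ⁅g', a⁆ * (a * ⁅g', b⁆ * a⁻¹) by simp [commutatorElement_def, mul_assoc]]
        exact mul_mem ha ((gam_normal 3).conj_mem _ hb a)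
      inv_mem' := fun {a} ha => by
        show ⁅g', a⁻¹⁆ ∈ gam G 3
        rw [show ⁅g', a⁻¹⁆ = a⁻¹ * ⁅g', a⁆⁻¹ * a⁻¹⁻¹ by simp [commutatorElement_def, mul_assoc]]
        exact (gam_normal 3).conj_mem _ (inv_mem ha) a⁻¹ }
  let ψ : ↥W →* Multiplicative (ZMod p) := MonoidHom.mk' (fun w => Multiplicative.ofAdd (ν (mkL w.2)))
    fun a b => by
      rw [← ofAdd_add, ← map_add, ← mkL_mul]
      refine congrArg _ (congrArg _ (Subtype.ext (cl_eq_of_mk_eq 3 (a * b).2 (mul_mem a.2 b.2) ?_)))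
      show ((⁅g', (a : G) * b⁆ : G) : G ⧸ gam G 4) = _
      rw [show ⁅g', (a : G) * b⁆ = ⁅g', (a : G)⁆ * ((a : G) * ⁅g', (b : G)⁆ * (a : G)⁻¹) by
          simp [commutatorElement_def, mul_assoc],
        QuotientGroup.mk_mul, QuotientGroup.mk_mul, QuotientGroup.mk_mul, QuotientGroup.mk_inv,
        (commute_mk (a := 0) (b := 3) (m := 4) (by omega) (mem_gam_zero (a : G))
          (show ⁅g', (b : G)⁆ ∈ gam G 3 from b.2)).eq, mul_inv_cancel_right,
        ← QuotientGroup.mk_mul]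
  have hconj : ∀ w : ↥W, ∃ h : α w ∈ W, ψ ⟨α w, h⟩ = ψ w := by
    intro w
    have h1 : α ⁅g', (w : G)⁆ = g' * ⁅g'⁻¹ * α g', α w⁆ * g'⁻¹ * ⁅g', α w⁆ := by
      rw [map_commutatorElement, ← commutatorElement_mul_left_eq_conj_mul, mul_inv_cancel_left]
    have h4 : g' * ⁅g'⁻¹ * α g', α w⁆ * g'⁻¹ ∈ gam G (3 + 1) :=
      (gam_normal (3 + 1)).conj_mem _
        (gam_anti (i := 3 + 1) (j := 3 + 0 + 1) (by omega) (commutator_mem_gam he' (mem_gam_zero (α (w : G))))) g'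
    have h2 : ⁅g', α w⁆ = (g' * ⁅g'⁻¹ * α g', α w⁆ * g'⁻¹)⁻¹ * α ⁅g', (w : G)⁆ := by rw [h1]; group
    have hmem : ⁅g', α w⁆ ∈ gam G 3 :=
      h2 ▸ mul_mem (inv_mem (gam_succ_le 3 h4)) (map_mem_gam α w.2)
    refine ⟨hmem, congrArg Multiplicative.ofAdd (congrArg ν ?_)⟩
    refine Eq.trans (Subtype.ext ?_) ((layMap_mkL α w.2).symm.trans (hall _))
    show cl 3 ⁅g', α w⁆ = cl 3 (α ⁅g', (w : G)⁆)
    rw [h2, cl_mul 3 (inv_mem (gam_succ_le 3 h4)) (map_mem_gam α w.2),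
      (cl_eq_zero_iff 3 (inv_mem (gam_succ_le 3 h4))).2 (inv_mem h4), zero_add]
  obtain ⟨r, hr1, hr2⟩ : ∃ r : ↥W, (r : G) ∈ gam G 1 ∧ ψ r ≠ 1 := by
    by_contra! hcon
    let Wb : AddSubgroup (Lay G 0) :=
      { carrier := Set.range fun w : ↥W => mkL (mem_gam_zero (w : G))
        zero_mem' := ⟨1, (mkL_eq_zero _).2 (one_mem _)⟩
        add_mem' := by rintro _ _ ⟨a, rfl⟩ ⟨b, rfl⟩; exact ⟨a * b, mkL_mul _ _⟩
        neg_mem' := by rintro _ ⟨a, rfl⟩; exact ⟨a⁻¹, Subtype.ext (cl_inv 0 (mem_gam_zero _))⟩ }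
    have hmaps : ∀ b : Wb, (layMap α 0 - AddMonoidHom.id (Lay G 0)) (b : Lay G 0) ∈ Wb := by
      rintro ⟨_, a, rfl⟩
      refine sub_mem ?_ ⟨a, rfl⟩
      exact ⟨⟨α a, (hconj a).choose⟩, (layMap_mkL α (mem_gam_zero (a : G))).symm⟩
    let δ : Wb → Wb := fun b => ⟨_, hmaps b⟩
    have hδ : Function.Surjective δ := Finite.injective_iff_surjective.1 fun a b hab => Subtype.ext
      ((Finite.injective_iff_surjective.2 h0') (congrArg Subtype.val hab))
    obtain ⟨⟨_, a, rfl⟩, ha'⟩ := hδ ⟨_, ⟨⟨w₁, hw₁⟩, rfl⟩⟩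
    obtain ⟨haα, hψ⟩ := hconj a
    set r : ↥W := (⟨α a, haα⟩ * a⁻¹)⁻¹ * ⟨w₁, hw₁⟩
    have hr : (r : G) ∈ gam G 1 := by
      have h0 : cl 0 (α a) - cl 0 (a : G) = cl 0 w₁ := by
        rw [← grMap_cl α 0 (mem_gam_zero (a : G))]
        exact congrArg (fun b : Wb => ((b : Lay G 0) : Gr G)) ha'
      refine (cl_eq_zero_iff 0 (mem_gam_zero _)).1 ?_
      show cl 0 ((α a * (a : G)⁻¹)⁻¹ * w₁) = 0
      rw [cl_mul 0 (mem_gam_zero _) (mem_gam_zero _), cl_inv 0 (mem_gam_zero _),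
        cl_mul 0 (mem_gam_zero _) (mem_gam_zero _), cl_inv 0 (mem_gam_zero _), ← h0]
      abel
    have h := hcon r hr
    rw [map_mul, map_inv, map_mul, map_inv, hψ, mul_inv_cancel, inv_one, one_mul] at h
    exact hνw h
  refine ⟨mkL hr1, fun h => hr2 ?_⟩
  rw [← hmk, br_mkL rfl hg' hr1 r.2] at h
  exact congrArg Multiplicative.ofAdd h

/-- The class is at most three. -/
theorem gam_three_eq_bot_aux (hG : IsPGroup p G)
    (cam : ∀ g : G, g ∉ gam G 1 → ∀ u ∈ gam G 1, ∃ w, ⁅g, w⁆ = u)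
    (ram3 : ∀ φ : Lay G 2 →+ ZMod p, φ ≠ 0 → ∀ g : G, g ∉ gam G 2 →
      ∃ w, ∃ h : ⁅g, w⁆ ∈ gam G 2, φ (mkL h) ≠ 0)
    (ram4 : ∀ φ : Lay G 3 →+ ZMod p, φ ≠ 0 → ∀ g : G, g ∉ gam G 3 →
      ∃ w, ∃ h : ⁅g, w⁆ ∈ gam G 3, φ (mkL h) ≠ 0)
    (bound : ∀ c : Lay G 0 →+ Lay G 0 →+ Lay G 1, (∀ m : Lay G 0, p • m = 0) → (∀ u : Lay G 1, p • u = 0) →
      (∀ m, c m m = 0) → (∀ φ : Lay G 1 →+ ZMod p, φ ≠ 0 → ∀ m, (∀ w, φ (c m w) = 0) → m = 0) →
        Nat.card (Lay G 1) ^ 2 ≤ Nat.card (Lay G 0))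
    (α : MulAut G) (hfix : ∀ u ∈ gam G 1, α u * u⁻¹ ∈ gam G 2)
    (hfpf : ∀ m, α m * m⁻¹ ∈ gam G 1 → m ∈ gam G 1)
    (hfpf3 : ∀ l ∈ gam G 2, α l * l⁻¹ ∈ gam G 3 → l ∈ gam G 3) : gam G 3 = ⊥ := by
  haveI := hG.isNilpotent
  haveI := fun i => finite_lay (G := G) i
  by_contra h3
  have hne : ∀ i ≤ 3, ∃ a : Lay G i, a ≠ 0 := by
    intro i hi
    by_contra! hall
    refine h3 (le_bot_iff.1 ((gam_anti hi).trans (gam_eq_bot_of_eq fun g hg => ?_).le))
    exact (mkL_eq_zero hg).1 (hall _)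
  set c := br (G := G) 0 0 1 rfl with hc
  set d := br (G := G) 1 0 2 rfl with hd
  set e := br (G := G) 2 0 3 rfl with he
  set f := br (G := G) 1 1 3 rfl with hf
  have hsurj : ∀ m, m ≠ 0 → ∀ u, ∃ w, c m w = u := by
    intro m hm u
    obtain ⟨g, hg, rfl⟩ := exists_mkL m
    obtain ⟨v, hv, rfl⟩ := exists_mkL u
    obtain ⟨w, rfl⟩ := cam g (fun h => hm ((mkL_eq_zero hg).2 h)) v hv
    exact ⟨mkL (mem_gam_zero w), br_mkL rfl hg (mem_gam_zero w) hv⟩
  obtain ⟨u₀, hu₀⟩ := hne 1 (by omega)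
  have hM : ∀ m : Lay G 0, p • m = 0 := by
    intro m
    by_contra hm
    have hs : Function.Surjective fun u : Lay G 1 => p • u := fun u => by
      obtain ⟨w, hw⟩ := hsurj _ hm u
      exact ⟨c m w, by rw [← hw, map_nsmul]; rfl⟩
    have hi := Finite.injective_iff_surjective.2 hs
    obtain ⟨g, hg, rfl⟩ := exists_mkL u₀
    obtain ⟨n, hn⟩ := hG g
    have hpow : ∀ j : ℕ, (p ^ j) • mkL hg = 0 → mkL hg = 0 := by
      intro j
      induction j with
      | zero => intro h; rwa [pow_zero, one_smul] at h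
      | succ j ih =>
        intro h
        refine ih (hi (show p • ((p ^ j) • mkL hg) = p • (0 : Lay G 1) from ?_))
        rw [smul_smul, ← pow_succ', h, smul_zero]
    refine hu₀ (hpow n (Subtype.ext ?_))
    rw [AddSubgroup.coe_nsmul, AddSubgroup.coe_zero]
    show (p ^ n) • cl 1 g = 0
    rw [← cl_pow 1 hg, hn, cl_one]
  have hU : ∀ u : Lay G 1, p • u = 0 := nsmul_eq_zero_succ hM
  have hN : ∀ u : Lay G 2, p • u = 0 := nsmul_eq_zero_succ hM
  have hW : ∀ u : Lay G 3, p • u = 0 := nsmul_eq_zero_succ hM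
  have halt : ∀ m, c m m = 0 := fun m => Subtype.ext (lie_self _)
  have hr3 : ∀ φ : Lay G 2 →+ ZMod p, φ ≠ 0 → ∀ u, u ≠ 0 → ∃ m, φ (d u m) ≠ 0 := by
    intro φ hφ u hu
    obtain ⟨g, hg, rfl⟩ := exists_mkL u
    obtain ⟨w, hw, hne'⟩ := ram3 φ hφ g fun h => hu ((mkL_eq_zero hg).2 h)
    exact ⟨mkL (mem_gam_zero w), by rwa [hd, br_mkL rfl hg (mem_gam_zero w) hw]⟩
  have hr4 : ∀ ν : Lay G 3 →+ ZMod p, ν ≠ 0 → ∀ l, l ≠ 0 → ∃ m, ν (e l m) ≠ 0 := by
    intro ν hν l hl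
    obtain ⟨g, hg, rfl⟩ := exists_mkL l
    obtain ⟨w, hw, hne'⟩ := ram4 ν hν g fun h => hl ((mkL_eq_zero hg).2 h)
    exact ⟨mkL (mem_gam_zero w), by rwa [he, br_mkL rfl hg (mem_gam_zero w) hw]⟩
  refine (show Layers p c d e f from
    { hM := hM, hU := hU, hN := hN, ne := ⟨⟨u₀, hu₀⟩, hne 2 (by omega)⟩, alt := halt
      altf := fun u => Subtype.ext (lie_self _)
      jac := fun a b x => Subtype.ext (by
        show ⁅⁅(a : Gr G), (b : Gr G)⁆, (x : Gr G)⁆ + ⁅⁅(b : Gr G), (x : Gr G)⁆, (a : Gr G)⁆ +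
          ⁅⁅(x : Gr G), (a : Gr G)⁆, (b : Gr G)⁆ = 0
        have h := lie_jacobi (a : Gr G) (b : Gr G) (x : Gr G)
        rw [← lie_skew (a : Gr G) ⁅(b : Gr G), (x : Gr G)⁆, ← lie_skew (b : Gr G) ⁅(x : Gr G), (a : Gr G)⁆,
          ← lie_skew (x : Gr G) ⁅(a : Gr G), (b : Gr G)⁆] at h
        rw [← neg_eq_zero, ← h]; abel)
      hall := fun u m n => Subtype.ext (by
        show ⁅⁅(u : Gr G), (m : Gr G)⁆, (n : Gr G)⁆ =
          ⁅⁅(u : Gr G), (n : Gr G)⁆, (m : Gr G)⁆ + ⁅(u : Gr G), ⁅(m : Gr G), (n : Gr G)⁆⁆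
        rw [leibniz_lie (u : Gr G) (m : Gr G) (n : Gr G), ← lie_skew (m : Gr G) ⁅(u : Gr G), (n : Gr G)⁆]
        abel)
      surj := hsurj, ram3 := hr3, ram4 := hr4
      zeta := ?_, bound := ?_, dich := ?_ }).elim
  · -- the commutators of a fixed element
    intro m hm
    obtain ⟨g, hg, rfl⟩ := exists_mkL m
    set R := (d.flip (mkL hg)).range
    let Z := (c (mkL hg)).ker
    let rel : AddSubgroup (Z × (Lay G 2 ⧸ R)) :=
      { carrier := {q | ∃ w, ∃ h : ⁅g, w⁆ ∈ gam G 2, (q.1 : Lay G 0) = mkL (mem_gam_zero w) ∧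
          q.2 = QuotientAddGroup.mk' R (mkL h)}
        zero_mem' := ⟨1, by rw [commutatorElement_one_right]; exact one_mem _,
          by rw [Prod.fst_zero, AddSubgroup.coe_zero]; exact ((mkL_eq_zero _).2 (one_mem _)).symm, by
          rw [Prod.snd_zero, (mkL_eq_zero _).2 (by rw [commutatorElement_one_right]; exact one_mem _), map_zero]⟩
        add_mem' := by
          rintro q q' ⟨w, hw, e1, e2⟩ ⟨w', hw', e1', e2'⟩
          have hid : ⁅g, w * w'⁆ = ⁅g, w⁆ * (w * ⁅g, w'⁆ * w⁻¹) := by simp [commutatorElement_def, mul_assoc]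
          have hmem : ⁅g, w * w'⁆ ∈ gam G 2 := hid ▸ mul_mem hw ((gam_normal 2).conj_mem _ hw' w)
          refine ⟨w * w', hmem, ?_, ?_⟩
          · rw [Prod.fst_add, AddSubgroup.coe_add, e1, e1', ← mkL_mul]
          · rw [Prod.snd_add, e2, e2', ← map_add, ← mkL_mul]
            refine congrArg _ (Subtype.ext (cl_eq_of_mk_eq 2 (mul_mem hw hw') hmem ?_))
            rw [hid, QuotientGroup.mk_mul, QuotientGroup.mk_mul, QuotientGroup.mk_mul, QuotientGroup.mk_mul,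
              QuotientGroup.mk_inv, (commute_mk (m := 3) (by omega) (mem_gam_zero w) hw').eq, mul_inv_cancel_right]
        neg_mem' := by
          rintro q ⟨w, hw, e1, e2⟩
          have hid : ⁅g, w⁻¹⁆ = w⁻¹ * ⁅g, w⁆⁻¹ * w := by simp [commutatorElement_def, mul_assoc]
          have hmem : ⁅g, w⁻¹⁆ ∈ gam G 2 := by
            rw [hid]; simpa using (gam_normal 2).conj_mem _ (inv_mem hw) w⁻¹
          refine ⟨w⁻¹, hmem, ?_, ?_⟩
          · rw [Prod.fst_neg, AddSubgroup.coe_neg, e1]; exact Subtype.ext (cl_inv 0 (mem_gam_zero w)).symm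
          · rw [Prod.snd_neg, e2, ← map_neg]
            refine congrArg _ (Subtype.ext ((cl_inv 2 hw).symm.trans (cl_eq_of_mk_eq 2 (inv_mem hw) hmem ?_)))
            rw [hid, QuotientGroup.mk_mul, QuotientGroup.mk_mul,
              (commute_mk (m := 3) (by omega) (mem_gam_zero w⁻¹) (inv_mem hw)).eq, mul_assoc,
              ← QuotientGroup.mk_mul, inv_mul_cancel, QuotientGroup.mk_one, mul_one] }
    have hinj : Function.Injective fun q : rel => (q : Z × (Lay G 2 ⧸ R)).1 := by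
      intro q q' hqq
      obtain ⟨w, hw, e1, e2⟩ := (q - q').2
      have h0 : (q - q' : rel).1.1 = 0 := by
        rw [AddSubgroup.coe_sub, Prod.fst_sub]; exact sub_eq_zero.2 hqq
      rw [h0, AddSubgroup.coe_zero, eq_comm, mkL_eq_zero] at e1
      have hR : mkL hw ∈ R := by
        refine ⟨-mkL e1, ?_⟩
        rw [map_neg]
        refine Subtype.ext ?_
        show -⁅cl 1 w, cl 0 g⁆ = cl 2 ⁅g, w⁆
        rw [lie_skew, lie_cl hg e1]
      rw [QuotientAddGroup.mk'_apply, (QuotientAddGroup.eq_zero_iff _).2 hR] at e2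
      have : (q - q' : rel).1 = 0 := Prod.ext h0 e2
      exact sub_eq_zero.1 (Subtype.ext this)
    let π : rel →+ Lay G 2 ⧸ R := (AddMonoidHom.snd _ _).comp rel.subtype
    have hπ : Function.Surjective π := by
      intro y
      obtain ⟨l, rfl⟩ := QuotientAddGroup.mk'_surjective R y
      obtain ⟨v, hv, rfl⟩ := exists_mkL l
      obtain ⟨w, rfl⟩ := cam g (fun h => hm ((mkL_eq_zero hg).2 h)) v (gam_succ_le 1 hv)
      have hwZ : mkL (mem_gam_zero w) ∈ Z := by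
        show c (mkL hg) (mkL (mem_gam_zero w)) = 0
        rw [hc, br_mkL rfl hg (mem_gam_zero w) (gam_succ_le 1 hv), mkL_eq_zero]
        exact hv
      exact ⟨⟨(⟨_, hwZ⟩, _), w, hv, rfl, rfl⟩, rfl⟩
    have hgg : ⁅g, g⁆ ∈ gam G 2 := by rw [commutatorElement_self]; exact one_mem _
    let g₀ : rel := ⟨(⟨mkL hg, halt _⟩, 0), g, hgg, rfl, by rw [(mkL_eq_zero hgg).2 (by rw [commutatorElement_self]; exact one_mem _), map_zero]⟩
    have hker : p ≤ Nat.card π.ker := by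
      have h1 : AddSubgroup.zmultiples g₀ ≤ π.ker :=
        AddSubgroup.zmultiples_le_of_mem (AddMonoidHom.mem_ker.2 rfl)
      have h2 : addOrderOf g₀ = p := addOrderOf_eq_prime (Subtype.ext (Prod.ext (Subtype.ext (hM _)) (nsmul_zero p)))
        fun h => hm (congrArg (fun q : rel => ((q : Z × (Lay G 2 ⧸ R)).1 : Lay G 0)) h)
      exact (h2.symm.le.trans (Nat.card_zmultiples g₀).ge).trans (AddSubgroup.card_le_of_le h1)
    have h1 := AddSubgroup.card_eq_card_quotient_mul_card_addSubgroup π.ker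
    rw [Nat.card_congr (QuotientAddGroup.quotientKerEquivOfSurjective π hπ).toEquiv] at h1
    have h2 := AddSubgroup.card_eq_card_quotient_mul_card_addSubgroup R
    have h3 : Nat.card rel ≤ Nat.card Z := Nat.card_le_card_of_injective _ hinj
    calc p * Nat.card (Lay G 2) = Nat.card (Lay G 2 ⧸ R) * p * Nat.card R := by rw [h2]; ring
      _ ≤ Nat.card Z * Nat.card R :=
        Nat.mul_le_mul_right _ ((Nat.mul_le_mul_left _ hker).trans (h1 ▸ h3))
  · refine bound c hM hU halt fun φ hφ m hm' => ?_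
    by_contra hne'
    refine hφ (AddMonoidHom.ext fun u => ?_)
    obtain ⟨w, rfl⟩ := hsurj m hne' u
    exact hm' w
  · -- the dichotomy
    have hfix1 : ∀ u : Lay G 1, layMap α 1 u = u := fun u => by
      obtain ⟨g, hg, rfl⟩ := exists_mkL u
      rw [layMap_mkL, ← sub_eq_zero, sub_eq_add_neg]
      refine Eq.trans (Subtype.ext ?_) ((mkL_eq_zero (mul_mem (map_mem_gam α hg) (inv_mem hg))).2 (hfix g hg))
      show cl 1 (α g) + -cl 1 g = cl 1 (α g * g⁻¹)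
      rw [cl_mul 1 (map_mem_gam α hg) (inv_mem hg), cl_inv 1 hg]
    have hinjL : ∀ i, (∀ l ∈ gam G i, α l * l⁻¹ ∈ gam G (i + 1) → l ∈ gam G (i + 1)) →
        Function.Surjective ⇑(layMap α i - AddMonoidHom.id (Lay G i)) := fun i hf' => by
      refine Finite.injective_iff_surjective.1 ((injective_iff_map_eq_zero (layMap α i - AddMonoidHom.id (Lay G i))).2
        fun a ha => ?_)
      obtain ⟨g, hg, rfl⟩ := exists_mkL a
      refine (mkL_eq_zero hg).2 (hf' g hg ((mkL_eq_zero (mul_mem (map_mem_gam α hg) (inv_mem hg))).1 ?_))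
      rw [← ha, AddMonoidHom.sub_apply, layMap_mkL, AddMonoidHom.id_apply, sub_eq_add_neg]
      exact Subtype.ext (by
        show cl i (α g * g⁻¹) = cl i (α g) + -cl i g
        rw [cl_mul i (map_mem_gam α hg) (inv_mem hg), cl_inv i hg])
    obtain ⟨w₀, hw₀⟩ := hne 3 le_rfl
    by_cases hall : ∀ l : Lay G 3, layMap α 3 l = l
    · obtain ⟨ν, hν⟩ := exists_hom_ne_zero hW hw₀
      have hν0 : ν ≠ 0 := fun h => hν (by rw [h]; rfl)
      exact ⟨ν, hν0, Or.inr fun u hu => exists_pairing_of_fixed α ν (ram4 ν hν0) hfix (hinjL 0 fun l _ => hfpf l)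
        (hinjL 2 hfpf3) hall hu⟩
    · let C : AddSubgroup (Lay G 3) := (layMap α 3 - AddMonoidHom.id (Lay G _)).ker
      obtain ⟨ν, hν, hν0⟩ := exists_hom_vanishing hW (C := C) fun h => hall fun l => by
        have hl : l ∈ C := h ▸ AddSubgroup.mem_top l
        exact sub_eq_zero.1 hl
      refine ⟨ν, hν, Or.inl fun u u' => hν0 _ ?_⟩
      show layMap α 3 (br 1 1 3 rfl u u') - br 1 1 3 rfl u u' = 0
      rw [layMap_br, hfix1, hfix1, sub_self]

end CfsgLib.NoDivDegrees.ClassFour
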