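import Mathlib

/-!
# Pairings of elementary abelian groups into `ZMod p`
-/

set_option autoImplicit false

namespace CfsgLib.NoDivDegrees.ClassFour

variable {p : ℕ} [Fact p.Prime]

theorem card_hom_zmod {X : Type*} [AddCommGroup X] [Finite X] (hX : ∀ x : X, p • x = 0) :
    Nat.card (X →+ ZMod p) = Nat.card X := by
  letI : Module (ZMod p) X := AddCommGroup.zmodModule (n := p) hX
  haveI : Module.Finite (ZMod p) X := Module.Finite.of_finite
  rw [Nat.card_congr (β := X →ₗ[ZMod p] ZMod p)
    ⟨fun f => f.toZModLinearMap p, fun g => g.toAddMonoidHom, fun _ => rfl, fun _ => rfl⟩]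
  exact (Nat.card_congr (Module.finBasis (ZMod p) X).toDualEquiv.toEquiv).symm

theorem exists_hom_ne_zero {X : Type*} [AddCommGroup X] [Finite X] (hX : ∀ x : X, p • x = 0) {x : X}
    (hx : x ≠ 0) : ∃ φ : X →+ ZMod p, φ x ≠ 0 := by
  letI : Module (ZMod p) X := AddCommGroup.zmodModule (n := p) hX
  by_contra! h
  exact hx ((Module.forall_dual_apply_eq_zero_iff (V := X) (ZMod p) x).1 fun f => h f.toAddMonoidHom)

/-- A proper subgroup is killed by a non-zero functional. -/
theorem exists_hom_vanishing {X : Type*} [AddCommGroup X] [Finite X] (hX : ∀ x : X, p • x = 0)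
    {C : AddSubgroup X} (hC : C ≠ ⊤) : ∃ φ : X →+ ZMod p, φ ≠ 0 ∧ ∀ c ∈ C, φ c = 0 := by
  obtain ⟨x, hx⟩ : ∃ x, x ∉ C := by
    by_contra! h
    exact hC (eq_top_iff.2 fun x _ => h x)
  have hXq : ∀ y : X ⧸ C, p • y = 0 := fun y => by
    obtain ⟨z, rfl⟩ := QuotientAddGroup.mk_surjective y
    rw [← QuotientAddGroup.mk_nsmul, hX, QuotientAddGroup.mk_zero]
  obtain ⟨φ, hφ⟩ := exists_hom_ne_zero hXq (x := (x : X ⧸ C)) (fun h => hx ((QuotientAddGroup.eq_zero_iff x).1 h))
  refine ⟨φ.comp (QuotientAddGroup.mk' C), fun h => hφ ?_, fun c hc => ?_⟩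
  · exact DFunLike.congr_fun h x
  · show φ (c : X ⧸ C) = 0
    rw [(QuotientAddGroup.eq_zero_iff c).2 hc, map_zero]

/-- The right kernel of a pairing without left kernel. -/
theorem card_ker_flip {U M : Type*} [AddCommGroup U] [AddCommGroup M] [Finite U] [Finite M]
    (hU : ∀ u : U, p • u = 0) (P : U →+ M →+ ZMod p) (hinj : ∀ u, (∀ m, P u m = 0) → u = 0) :
    Nat.card P.flip.ker * Nat.card U = Nat.card M := by
  haveI : Finite (U →+ ZMod p) := Finite.of_injective _ DFunLike.coe_injective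
  haveI : Finite (P.flip.range →+ ZMod p) := Finite.of_injective _ DFunLike.coe_injective
  have h1 : Nat.card P.flip.range ≤ Nat.card U :=
    (AddSubgroup.card_le_card_addGroup _).trans (card_hom_zmod hU).le
  have hR : ∀ x : P.flip.range, p • x = 0 := fun x => by
    refine Subtype.ext (AddMonoidHom.ext fun u => ?_)
    rw [AddSubgroup.coe_nsmul, AddSubgroup.coe_zero, AddMonoidHom.zero_apply, AddMonoidHom.nsmul_apply,
      ← map_nsmul, hU, map_zero]
  have h2 : Nat.card U ≤ Nat.card P.flip.range := by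
    rw [← card_hom_zmod hR]
    refine Nat.card_le_card_of_injective
      (fun u => (AddMonoidHom.eval u).comp P.flip.range.subtype) fun u v h => ?_
    refine sub_eq_zero.1 (hinj _ fun m => ?_)
    have := DFunLike.congr_fun h ⟨P.flip m, m, rfl⟩
    simpa [sub_eq_zero] using this
  have h3 := AddSubgroup.card_eq_card_quotient_mul_card_addSubgroup P.flip.ker
  rw [Nat.card_congr (QuotientAddGroup.quotientKerEquivRange P.flip).toEquiv] at h3
  rw [h3, le_antisymm h1 h2, mul_comm]

/-- An isotropic subgroup of a non-degenerate pairing. -/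
theorem card_sq_le_of_isotropic {M : Type*} [AddCommGroup M] [Finite M] (hM : ∀ m : M, p • m = 0)
    (P : M →+ M →+ ZMod p) (hinj : ∀ u, (∀ m, P u m = 0) → u = 0) (R : AddSubgroup M)
    (hR : ∀ r ∈ R, ∀ r' ∈ R, P r r' = 0) : Nat.card R ^ 2 ≤ Nat.card M := by
  have h := card_ker_flip (fun r : R => Subtype.ext (by simpa using hM (r : M))) (P.comp R.subtype)
    (fun r hr => Subtype.ext (hinj _ hr))
  have hle : Nat.card R ≤ Nat.card (P.comp R.subtype).flip.ker :=
    AddSubgroup.card_le_of_le fun r hr => AddMonoidHom.mem_ker.2 (AddMonoidHom.ext fun s => hR s s.2 r hr)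
  rw [pow_two, ← h]
  exact Nat.mul_le_mul_right _ hle

end CfsgLib.NoDivDegrees.ClassFour
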